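import Groth.Agent.ArtFunLib.HilbSit
import Groth.Agent.ArtFunLib.HilbSmooth
import Groth.Agent.DefGlueLib.Alg

/-! The local Hilbert functor turns fibre products along surjections into fibre products. -/

set_option autoImplicit false
set_option linter.style.haveILetI false
set_option backward.isDefEq.respectTransparency false
universe u

open CategoryTheory CategoryTheory.Limits AlgebraicGeometry ArtFun ArtFun.Art Opposite

namespace Groth.Agent.ArtFunLib.HilbFib

open HilbAffine HilbSit HilbIdeal DefGlueLib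

variable {k : Type u} [Field k] {X : Scheme.{u}} (x : X ⟶ specPt k) (I₀ : X.IdealSheafData)

/-- The structure map of functions on an affine open. -/
noncomputable def cU (U : X.affineOpens) : k →+* Γ(X, U.1) :=
  (x.appLE ⊤ U.1 (fun _ _ => trivial)).hom.comp (Scheme.ΓSpecIso (CommRingCat.of k)).inv.hom

theorem rho_c (B : Art k k) (U : X.affineOpens) (b : B) :
    rho x B U (c x B U b) = cU x U (B.res b) := by
  have h1 : (XApr x B).appLE ⊤ (W x B U).1 (fun _ _ => trivial) ≫
      (XAincl x B).appLE (W x B U).1 U.1 (rho_le x B U).le =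
      (specRes B).appTop ≫ x.appLE ⊤ U.1 (fun _ _ => trivial) := by
    rw [Scheme.Hom.appLE_comp_appLE, appLE_congr (XAincl_snd x B) ⊤ U.1 _ (fun _ _ => trivial),
      Scheme.Hom.comp_appLE]
    rfl
  have h2 := Scheme.ΓSpecIso_inv_naturality (CommRingCat.ofHom B.res.toRingHom)
  refine (congr($h1 ((Scheme.ΓSpecIso (CommRingCat.of B)).inv b))).trans ?_
  exact congrArg (x.appLE ⊤ U.1 (fun _ _ => trivial)).hom (congr($h2 b)).symm

theorem isDef_amb (B : Art k k) (U : X.affineOpens) : IsDef B (cU x U) (c x B U) (rho x B U) :=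
  ⟨flat_c x B U, (rho_spec x B U).1, rho_c x B U, (rho_spec x B U).2.le⟩

variable {x I₀}

theorem map_rho {B : Art k k} (I : (localHilb X x I₀).obj B) (U : X.affineOpens) :
    (I.1.ideal (W x B U)).map (rho x B U) = I₀.ideal U := by
  rw [← comap_incl_ideal, I.2.2]

theorem map_pi {B A : Art k k} (p : B ⟶ A) (I : (localHilb X x I₀).obj B)
    {J : (localHilb X x I₀).obj A} (h : (localHilb X x I₀).map p I = J) (U : X.affineOpens) :
    (I.1.ideal (W x B U)).map (pi x p U) = J.1.ideal (W x A U) := by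
  rw [← comap_map_ideal, ← h]
  rfl

/-- The closed fibre of the quotient by an element of the local Hilbert functor. -/
noncomputable def rhoQ {B : Art k k} (I : (localHilb X x I₀).obj B) (U : X.affineOpens) :
    (Γ(XA x B, (W x B U).1) ⧸ I.1.ideal (W x B U)) →+* Γ(X, U.1) ⧸ I₀.ideal U :=
  Ideal.quotientMap _ (rho x B U) (Ideal.map_le_iff_le_comap.mp (map_rho I U).le)

theorem rhoQ_mk {B : Art k k} (I : (localHilb X x I₀).obj B) (U : X.affineOpens)
    (r : Γ(XA x B, (W x B U).1)) :
    rhoQ I U (Ideal.Quotient.mk _ r) = Ideal.Quotient.mk _ (rho x B U r) := rfl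

/-- The structure map of the closed fibre. -/
noncomputable abbrev cQ (x : X ⟶ specPt k) (I₀ : X.IdealSheafData) (U : X.affineOpens) :
    k →+* Γ(X, U.1) ⧸ I₀.ideal U :=
  (Ideal.Quotient.mk (I₀.ideal U)).comp (cU x U)

theorem isDef_quot {B : Art k k} (I : (localHilb X x I₀).obj B) (U : X.affineOpens) :
    IsDef B (cQ x I₀ U) ((Ideal.Quotient.mk (I.1.ideal (W x B U))).comp (c x B U)) (rhoQ I U) := by
  refine ⟨flat_quotient x I.1 I.2.1 U, fun z => ?_, fun b => ?_, fun z hz => ?_⟩
  · obtain ⟨z, rfl⟩ := Ideal.Quotient.mk_surjective z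
    obtain ⟨r, rfl⟩ := (rho_spec x B U).1 z
    exact ⟨Ideal.Quotient.mk _ r, rfl⟩
  · show Ideal.Quotient.mk _ (rho x B U (c x B U b)) = _
    rw [rho_c]
    rfl
  · obtain ⟨r, rfl⟩ := Ideal.Quotient.mk_surjective z
    rw [RingHom.mem_ker, rhoQ_mk, Ideal.Quotient.eq_zero_iff_mem, ← map_rho I U] at hz
    obtain ⟨i, hi, hir⟩ := (Ideal.mem_map_iff_of_surjective _ (rho_spec x B U).1).mp hz
    have h1 : r - i ∈ (IsLocalRing.maximalIdeal B).map (c x B U) := by
      rw [← (rho_spec x B U).2, RingHom.mem_ker, map_sub, hir, sub_self]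
    rw [← Ideal.map_map]
    have h2 := Ideal.mem_map_of_mem (Ideal.Quotient.mk (I.1.ideal (W x B U))) h1
    rwa [map_sub, Ideal.Quotient.eq_zero_iff_mem.mpr hi, sub_zero] at h2

/-- The kernel of a restriction is generated by the restrictions of the kernel. -/
theorem le_map_of_basis {B C : Art k k} {R R' B₀ : Type u} [CommRing R] [CommRing R'] [CommRing B₀]
    {c₀ : k →+* B₀} {a : B →+* R} {q : R →+* B₀} {a' : C →+* R'} {q' : R' →+* B₀}
    (h : IsDef B c₀ a q) (h' : IsDef C c₀ a' q') (p : B ⟶ C) (φ : R →+* R')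
    (ha : ∀ b, φ (a b) = a' (p b)) (hq : ∀ r, q' (φ r) = q r) (J : Ideal R) {κ : Type u} (g : κ → R)
    (hspan : ∀ r, ∃ v, r - comb a g v ∈ J) (I : Ideal R') (hJI : ∀ r ∈ J, φ r ∈ I)
    (hinj : Function.Injective (comb ((Ideal.Quotient.mk I).comp a') fun i => Ideal.Quotient.mk I (φ (g i)))) :
    I ≤ J.map φ := by
  classical
  obtain ⟨κ₀, e₀, he₀⟩ := h.exists_basis
  have hb' := h'.bijective_comb (e := φ ∘ e₀) (by
    rwa [show q' ∘ φ ∘ e₀ = q ∘ e₀ from funext fun i => hq _])
  let _ := a'.toAlgebra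
  have key : ∀ y : R', ∃ v : κ →₀ C, y - comb a' (φ ∘ g) v ∈ J.map φ := by
    intro y
    obtain ⟨w, rfl⟩ := hb'.2 y
    induction w using Finsupp.induction_linear with
    | zero => exact ⟨0, by simp [comb]⟩
    | add w w' hw hw' =>
      obtain ⟨v, hv⟩ := hw
      obtain ⟨v', hv'⟩ := hw'
      refine ⟨v + v', ?_⟩
      have hadd : ∀ {ι : Type u} (e : ι → R') (s t : ι →₀ C),
          comb a' e (s + t) = comb a' e s + comb a' e t := fun e s t =>
        Finsupp.sum_add_index' (fun i => by rw [map_zero, zero_mul]) fun i b b' => by rw [map_add, add_mul]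
      rw [hadd, hadd, add_sub_add_comm]
      exact add_mem hv hv'
    | single i t =>
      obtain ⟨v, hv⟩ := hspan (e₀ i)
      refine ⟨t • v.mapRange p (map_zero p.toAlgHom), ?_⟩
      have h1 : φ (e₀ i) - comb a' (φ ∘ g) (v.mapRange p (map_zero p.toAlgHom)) ∈ J.map φ := by
        rw [show comb a' (φ ∘ g) (v.mapRange p (map_zero p.toAlgHom)) = φ (comb a g v) from
          (map_comb φ p.toAlgHom.toRingHom ha g v).symm, ← map_sub]
        exact Ideal.mem_map_of_mem _ hv
      have h2 : comb a' (φ ∘ e₀) (Finsupp.single i t) = a' t * φ (e₀ i) :=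
        Finsupp.sum_single_index (by rw [map_zero, zero_mul])
      have h3 : ∀ w : κ →₀ C, comb a' (φ ∘ g) (t • w) = a' t * comb a' (φ ∘ g) w := fun w => by
        have he : comb a' (φ ∘ g) = Finsupp.linearCombination C (φ ∘ g) := funext (comb_eq (A := C) _)
        rw [he, map_smul, Algebra.smul_def]
        rfl
      rw [h2, h3, ← mul_sub]
      exact Ideal.mul_mem_left _ _ h1
  intro y hy
  obtain ⟨v, hv⟩ := key y
  have hmap : J.map φ ≤ I := Ideal.map_le_iff_le_comap.mpr hJI
  have h0 : v = 0 := hinj (by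
    have h4 : comb a' (φ ∘ g) v ∈ I := by
      have := sub_mem hy (hmap hv)
      rwa [sub_sub_cancel] at this
    have h5 := map_comb (Ideal.Quotient.mk I) (RingHom.id C) (a := a') (a' := (Ideal.Quotient.mk I).comp a') (fun _ => rfl) (φ ∘ g) v
    rw [Ideal.Quotient.eq_zero_iff_mem.mpr h4] at h5
    refine Eq.trans ?_ (h5.symm.trans (by simp [comb]))
    exact congrArg _ (by ext i; simp))
  rw [h0] at hv
  simpa [comb] using hv

section Square

variable {B A A' A'' : Art k k} {p' : B ⟶ A'} {p'' : B ⟶ A''} {f' : A' ⟶ A} {f'' : A'' ⟶ A}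

theorem pi_pi (h : f'.toAlgHom.comp p'.toAlgHom = f''.toAlgHom.comp p''.toAlgHom)
    (U : X.affineOpens) (r : Γ(XA x B, (W x B U).1)) :
    pi x f' U (pi x p' U r) = pi x f'' U (pi x p'' U r) := by
  have hw : p' ≫ f' = p'' ≫ f'' := Art.Hom.ext h
  have h1 : ∀ {C D : Art k k} (f : B ⟶ C) (g : C ⟶ D),
      pi x g U (pi x f U r) = pi x (f ≫ g) U r := by
    intro C D f g
    have := Scheme.Hom.appLE_comp_appLE (XAmap x g) (XAmap x f) (W x B U).1 (W x C U).1 (W x D U).1
      (pi_le x f U).le (pi_le x g U).le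
    rw [appLE_congr (XAmap_comp x f g).symm (W x B U).1 (W x D U).1 _ (pi_le x (f ≫ g) U).le] at this
    exact congr($this r)
  rw [h1, h1, hw]

variable {I' : (localHilb X x I₀).obj A'} {I'' : (localHilb X x I₀).obj A''}
  {IA : (localHilb X x I₀).obj A} (h1 : (localHilb X x I₀).map f' I' = IA)
  (h2 : (localHilb X x I₀).map f'' I'' = IA) (U : X.affineOpens)

/-- The restriction map of quotients. -/
noncomputable def piQ {B A : Art k k} (p : B ⟶ A) {I : (localHilb X x I₀).obj B}
    {J : (localHilb X x I₀).obj A} (h : (localHilb X x I₀).map p I = J) (U : X.affineOpens) :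
    (Γ(XA x B, (W x B U).1) ⧸ I.1.ideal (W x B U)) →+* Γ(XA x A, (W x A U).1) ⧸ J.1.ideal (W x A U) :=
  Ideal.quotientMap _ (pi x p U) (Ideal.map_le_iff_le_comap.mp (map_pi p I h U).le)

include h1 h2

set_option maxHeartbeats 800000 in
theorem exists_fibre (hw : IsFibreProd p' p'' f' f'') (hf : Function.Surjective f'') :
    ∃ (J : Ideal Γ(XA x B, (W x B U).1)),
      (∀ r, r ∈ J ↔ pi x p' U r ∈ I'.1.ideal (W x A' U) ∧ pi x p'' U r ∈ I''.1.ideal (W x A'' U)) ∧
      J.map (pi x p' U) = I'.1.ideal (W x A' U) ∧ J.map (pi x p'' U) = I''.1.ideal (W x A'' U) ∧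
      J.map (rho x B U) = I₀.ideal U ∧ ((Ideal.Quotient.mk J).comp (c x B U)).Flat ∧
      ∀ K : (localHilb X x I₀).obj B, K.1.ideal (W x B U) ≤ J → K.1.ideal (W x B U) = J := by
  have hw' : f'.toAlgHom.comp p'.toAlgHom = f''.toAlgHom.comp p''.toAlgHom :=
    congrArg Art.Hom.toAlgHom hw.w
  let RB := Γ(XA x B, (W x B U).1)
  -- the quotient
  let ψ' := piQ f' h1 U
  let ψ'' := piQ f'' h2 U
  let δ : RB →+* fibRing ψ' ψ'' :=
    (((Ideal.Quotient.mk (I'.1.ideal (W x A' U))).comp (pi x p' U)).prod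
      ((Ideal.Quotient.mk (I''.1.ideal (W x A'' U))).comp (pi x p'' U))).codRestrict _ fun r => by
        show Ideal.Quotient.mk _ (pi x f' U (pi x p' U r)) = Ideal.Quotient.mk _ (pi x f'' U (pi x p'' U r))
        rw [pi_pi hw']
  have hQ := isDef_fib hw hf (isDef_quot IA U) (isDef_quot I' U) (isDef_quot I'' U)
    (φ' := ψ') (φ'' := ψ'')
    (fun a => by show Ideal.Quotient.mk _ (pi x f' U (c x A' U a)) = _; rw [pi_c]; rfl)
    (fun a => by show Ideal.Quotient.mk _ (pi x f'' U (c x A'' U a)) = _; rw [pi_c]; rfl)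
    (fun r => by
      obtain ⟨r, rfl⟩ := Ideal.Quotient.mk_surjective r
      show Ideal.Quotient.mk _ (rho x A U (pi x f' U r)) = _
      rw [rho_pi]; rfl)
    (fun r => by
      obtain ⟨r, rfl⟩ := Ideal.Quotient.mk_surjective r
      show Ideal.Quotient.mk _ (rho x A U (pi x f'' U r)) = _
      rw [rho_pi]; rfl)
    (b := δ.comp (c x B U))
    (fun b => congrArg (Ideal.Quotient.mk _) (pi_c x p' U b))
    (fun b => congrArg (Ideal.Quotient.mk _) (pi_c x p'' U b))
  let qF := (rhoQ I' U).comp ((RingHom.fst _ _).comp (fibRing ψ' ψ'').subtype)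
  have hδq : ∀ r, qF (δ r) = Ideal.Quotient.mk _ (rho x B U r) := fun r =>
    congrArg (Ideal.Quotient.mk _) (rho_pi x p' U r)
  have hδ : Function.Surjective δ := by
    obtain ⟨κ, e, he⟩ := hQ.exists_basis
    have hq : Function.Surjective fun r => qF (δ r) := fun z => by
      obtain ⟨z, rfl⟩ := Ideal.Quotient.mk_surjective z
      obtain ⟨r, hr⟩ := (rho_spec x B U).1 z
      exact ⟨r, (hδq r).trans (congrArg _ hr)⟩
    choose g hg using fun i => hq (qF (e i))
    have hb := hQ.bijective_comb (e := fun i => δ (g i)) (by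
      rwa [show qF ∘ (fun i => δ (g i)) = qF ∘ e from funext hg])
    intro z
    obtain ⟨v, rfl⟩ := hb.2 z
    exact ⟨comb (c x B U) g v, (map_comb δ (RingHom.id B) (a' := δ.comp (c x B U)) (fun _ => rfl) g v).trans
      (congrArg (comb _ _) (by ext i; simp))⟩
  -- lifts of a basis of the quotient
  obtain ⟨κ, e, he⟩ := hQ.exists_basis
  choose g hg using fun i => hδ (e i)
  have hbe := hQ.bijective_comb he
  have hspan : ∀ r, ∃ v, r - comb (c x B U) g v ∈ RingHom.ker δ := fun r => by
    obtain ⟨v, hv⟩ := hbe.2 (δ r)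
    refine ⟨v, RingHom.mem_ker.mpr ?_⟩
    rw [map_sub, map_comb δ (RingHom.id B) (a' := δ.comp (c x B U)) (fun _ => rfl) g v, ← hv, sub_eq_zero]
    exact congrArg₂ (fun e v => comb (δ.comp (c x B U)) e v) (funext hg).symm (by ext i; simp)
  have hle : ∀ {C : Art k k} (p : B ⟶ C) (I : (localHilb X x I₀).obj C),
      (∀ r, δ r = 0 → pi x p U r ∈ I.1.ideal (W x C U)) →
      (RingHom.ker δ).map (pi x p U) = I.1.ideal (W x C U) := by
    intro C p I hI
    refine le_antisymm (Ideal.map_le_iff_le_comap.mpr fun r hr => hI r hr) ?_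
    refine le_map_of_basis (isDef_amb x B U) (isDef_amb x C U) p (pi x p U) (pi_c x p U)
      (rho_pi x p U) (RingHom.ker δ) g hspan (I.1.ideal (W x C U))
      (fun r hr => hI r hr) ?_
    refine ((isDef_quot I U).bijective_comb ?_).1
    have : rhoQ I U ∘ (fun i => Ideal.Quotient.mk _ (pi x p U (g i))) = qF ∘ e := by
      funext i
      show Ideal.Quotient.mk _ (rho x C U (pi x p U (g i))) = qF (e i)
      rw [rho_pi, ← hδq, hg]
    rwa [this]
  refine ⟨RingHom.ker δ, fun r => ?_, ?_, ?_, ?_, ?_, fun K hK => ?_⟩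
  · rw [RingHom.mem_ker]
    constructor
    · intro h
      exact ⟨Ideal.Quotient.eq_zero_iff_mem.mp (congrArg (fun z => z.1.1) h),
        Ideal.Quotient.eq_zero_iff_mem.mp (congrArg (fun z => z.1.2) h)⟩
    · intro h
      exact Subtype.ext (Prod.ext (Ideal.Quotient.eq_zero_iff_mem.mpr h.1)
        (Ideal.Quotient.eq_zero_iff_mem.mpr h.2))
  · exact hle p' I' fun r hr => Ideal.Quotient.eq_zero_iff_mem.mp (congrArg (fun z => z.1.1) hr)
  · exact hle p'' I'' fun r hr => Ideal.Quotient.eq_zero_iff_mem.mp (congrArg (fun z => z.1.2) hr)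
  · refine le_antisymm (Ideal.map_le_iff_le_comap.mpr fun r hr => ?_) fun z hz => ?_
    · rw [Ideal.mem_comap, ← Ideal.Quotient.eq_zero_iff_mem, ← hδq, RingHom.mem_ker.mp hr, map_zero]
    · obtain ⟨r, rfl⟩ := (rho_spec x B U).1 z
      have h0 : δ r ∈ RingHom.ker qF := by
        rw [RingHom.mem_ker, hδq]
        exact Ideal.Quotient.eq_zero_iff_mem.mpr hz
      have h3 := hQ.ker_le h0
      rw [← Ideal.map_map] at h3
      obtain ⟨r', hr', hδr⟩ := (Ideal.mem_map_iff_of_surjective _ hδ).mp h3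
      have h4 : rho x B U r = rho x B U (r - r') := by
        have h0' : rho x B U r' = 0 := by rw [← RingHom.mem_ker, (rho_spec x B U).2]; exact hr'
        rw [map_sub, h0', sub_zero]
      rw [h4]
      exact Ideal.mem_map_of_mem _ (RingHom.mem_ker.mpr (by rw [map_sub, hδr, sub_self]))
  · have h5 := hQ.flat.comp (RingHom.Flat.of_bijective
      (f := (RingHom.quotientKerEquivOfSurjective hδ).symm.toRingHom)
      (RingHom.quotientKerEquivOfSurjective hδ).symm.bijective)
    convert h5 using 1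
    refine RingHom.ext fun b => (RingHom.quotientKerEquivOfSurjective hδ).injective ?_
    exact ((RingHom.quotientKerEquivOfSurjective hδ).apply_symm_apply _).symm
  · have hb := (isDef_quot K U).bijective hQ (Ideal.Quotient.lift _ δ fun r hr => hK hr)
      (fun _ => rfl) fun r => by
        obtain ⟨r, rfl⟩ := Ideal.Quotient.mk_surjective r
        exact hδq r
    refine le_antisymm hK fun r hr => Ideal.Quotient.eq_zero_iff_mem.mp (hb.1 ?_)
    rw [map_zero]
    exact hr

end Square

variable (X x I₀) in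
/-- The comparison map of a fibre product along a surjection is bijective. -/
theorem cmp_bijective {B A A' A'' : Art k k} {p' : B ⟶ A'} {p'' : B ⟶ A''} {f' : A' ⟶ A} {f'' : A'' ⟶ A}
    (h : IsFibreProd p' p'' f' f'') (hf : Function.Surjective f'') :
    Function.Bijective (cmp (localHilb X x I₀) h) := by
  have haff : ∀ {B C : Art k k} (p : B ⟶ C), IsAffineHom (XAmap x p) := fun p =>
    MorphismProperty.of_isPullback (P := @IsAffineHom) (isPullback_XAmap x p).flip inferInstance
  have hmem : ∀ {B C : Art k k} (p : B ⟶ C) (I : (XA x C).IdealSheafData) (U : X.affineOpens) r,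
      r ∈ (I.map (XAmap x p)).ideal (W x B U) ↔ pi x p U r ∈ I.ideal (W x C U) := fun p I U r => by
    haveI := haff p
    exact mem_map_iff (XAmap x p) I (W x _ U) (W x _ U) (pi_le x p U) (pi_le x p U).le r
  constructor
  · intro K K' hKK'
    let z := cmp (localHilb X x I₀) h K
    have e' : (localHilb X x I₀).map p' K' = z.1.1 := (congrArg (fun w => w.1.1) hKK').symm
    have e'' : (localHilb X x I₀).map p'' K' = z.1.2 := (congrArg (fun w => w.1.2) hKK').symm
    refine Subtype.ext (HilbAffine.ext_ideal x fun U => ?_)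
    obtain ⟨J, hJ, -, -, -, -, hmax⟩ := exists_fibre (I' := z.1.1) (I'' := z.1.2) z.2 rfl U h hf
    have hle : ∀ L : (localHilb X x I₀).obj B, (localHilb X x I₀).map p' L = z.1.1 →
        (localHilb X x I₀).map p'' L = z.1.2 → L.1.ideal (W x B U) ≤ J := fun L h₁ h₂ r hr =>
      (hJ r).mpr ⟨map_pi p' L h₁ U ▸ Ideal.mem_map_of_mem _ hr,
        map_pi p'' L h₂ U ▸ Ideal.mem_map_of_mem _ hr⟩
    rw [hmax K (hle K rfl rfl), hmax K' (hle K' e' e'')]
  · rintro ⟨⟨I', I''⟩, hI⟩
    let I := I'.1.map (XAmap x p') ⊓ I''.1.map (XAmap x p'')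
    have hIU : ∀ U r, r ∈ I.ideal (W x B U) ↔
        pi x p' U r ∈ I'.1.ideal (W x A' U) ∧ pi x p'' U r ∈ I''.1.ideal (W x A'' U) := fun U r => by
      show r ∈ (I'.1.map (XAmap x p') ⊓ I''.1.map (XAmap x p'')).ideal (W x B U) ↔ _
      rw [Scheme.IdealSheafData.ideal_inf, Pi.inf_apply, Ideal.mem_inf, hmem, hmem]
    choose J hJ hJ₁ hJ₂ hJ₀ hJf _ using fun U : X.affineOpens =>
      exists_fibre (I' := I') (I'' := I'') hI rfl U h hf
    have hIJ : ∀ U, I.ideal (W x B U) = J U := fun U => Ideal.ext fun r => (hIU U r).trans (hJ U r).symm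
    refine ⟨⟨I, flat_of_ideals I fun U => by rw [hIJ]; exact hJf U, ?_⟩, ?_⟩
    · exact Scheme.IdealSheafData.ext (funext fun U => by rw [comap_incl_ideal, hIJ, hJ₀])
    · refine Subtype.ext (Prod.ext (Subtype.ext ?_) (Subtype.ext ?_))
      · exact HilbAffine.ext_ideal x fun U => (comap_map_ideal x p' I U).trans (by rw [hIJ, hJ₁])
      · exact HilbAffine.ext_ideal x fun U => (comap_map_ideal x p'' I U).trans (by rw [hIJ, hJ₂])

variable (X x I₀) in
/-- The local Hilbert functor has one point over the field. -/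
theorem h0 : H0 (localHilb X x I₀) := by
  haveI : IsIso (XAincl x (base k k)) := by
    have := isPullback_XAincl x (base k k)
    exact this.isIso_fst_of_isIso
  refine ⟨⟨⟨I₀.comap (inv (XAincl x (base k k))), flat_of_ideals _ fun U => ?_, ?_⟩⟩, ⟨fun a b => ?_⟩⟩
  · let _ := ((Ideal.Quotient.mk ((I₀.comap (inv (XAincl x (base k k)))).ideal (W x (base k k) U))).comp
      (c x (base k k) U)).toAlgebra
    letI : Field (base k k) := (inferInstance : Field k)
    exact Module.Flat.of_free
  · rw [← Scheme.IdealSheafData.comap_comp, IsIso.hom_inv_id, Scheme.IdealSheafData.comap_id]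
  · refine Subtype.ext ?_
    have h := congrArg (·.comap (inv (XAincl x (base k k)))) (a.2.2.trans b.2.2.symm)
    simpa only [← Scheme.IdealSheafData.comap_comp, IsIso.inv_hom_id, Scheme.IdealSheafData.comap_id] using h

end Groth.Agent.ArtFunLib.HilbFib
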